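import Cfsg.Agent.H755.S8.KL
import Cfsg.Agent.H678.PV.RowHNThree
import Cfsg.Agent.H845.HNNineteen
import Cfsg.Agent.H175.Ore.HNEl
import Cfsg.Agent.KFacts.HN.PCard

/-!
# The class number of the Harada-Norton group is at most 8388607 (helper705)

Crude bound from the centralizers of elements of the orders 2, 3, 7, 11 and 19 (`H755.S8.card_conj_le`).
-/

set_option autoImplicit false

namespace Cfsg.Agent.H705.HNC

open Subgroup Cfsg

theorem card_hn : Nat.card Spor.HN = 273030912000000 := Cfsg.Agent.S1701.result.2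

theorem finite_hn : Finite Spor.HN := Nat.finite_of_card_ne_zero (by rw [card_hn]; norm_num)

theorem card_centralizer_one : Nat.card (centralizer ({(1 : Spor.HN)} : Set Spor.HN)) = 273030912000000 := by
  have h : centralizer ({(1 : Spor.HN)} : Set Spor.HN) = ⊤ := by
    rw [eq_top_iff]
    intro g _
    rw [mem_centralizer_singleton_iff, mul_one, one_mul]
  rw [h, Nat.card_congr Subgroup.topEquiv.toEquiv, card_hn]

/-- **The class number** (really 54) -/
theorem k_le : Nat.card (ConjClasses Spor.HN) ≤ 8388607 := by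
  have := finite_hn
  have h2 : ∃ z : Spor.HN, orderOf z = 2 ∧ Nat.card (centralizer ({z} : Set Spor.HN)) ≤ 3686400 :=
    ⟨Cfsg.Agent.HN.XWords.W0, orderOf_eq_prime (by rw [pow_two, Cfsg.Agent.HN.XWords.W0_sq]) (by
      intro h
      have h1 := Cfsg.Agent.KFacts.HN.PCard.card_centralizer
      have h2 : Nat.card (centralizer ({Cfsg.Agent.HN.XWords.W0} : Set Spor.HN)) = 3686400 := h1
      rw [h, card_centralizer_one] at h2
      omega), Cfsg.Agent.KFacts.HN.PCard.card_centralizer.le⟩
  have h3 : ∃ z : Spor.HN, orderOf z = 3 ∧ Nat.card (centralizer ({z} : Set Spor.HN)) ≤ 544320 :=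
    ⟨_, Cfsg.Agent.CpAutHN.Pairs.order_X1, by
      have h := Cfsg.Agent.H678.PV.HNThree.card_C
      rw [Cfsg.Agent.H678.PV.HNThree.card_KK] at h
      exact h⟩
  have h7 : ∃ z : Spor.HN, orderOf z = 7 ∧ Nat.card (centralizer ({z} : Set Spor.HN)) ≤ 420 :=
    ⟨_, Cfsg.Agent.H845.HNSeven.order_X7, Cfsg.Agent.H845.HNSeven.card_cent.le⟩
  have h11 : ∃ z : Spor.HN, orderOf z = 11 ∧ Nat.card (centralizer ({z} : Set Spor.HN)) ≤ 22 :=
    ⟨_, Cfsg.Agent.H710.Spor.HNMix.orderOf_ψx, Cfsg.Agent.H175.Ore.HNEl.card_cent.le⟩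
  have h19 : ∃ z : Spor.HN, orderOf z = 19 ∧ Nat.card (centralizer ({z} : Set Spor.HN)) ≤ 19 := by
    obtain ⟨x, hx, hc⟩ := Cfsg.Agent.H845.HNNineteen.hn_nineteen
    exact ⟨x, hx, hc.le⟩
  have key := Cfsg.Agent.H755.S8.card_conj_le (T := Spor.HN) {2, 3, 7, 11, 19}
    (by intro p hp; simp only [Finset.mem_insert, Finset.mem_singleton] at hp; rcases hp with rfl | rfl | rfl | rfl | rfl <;> norm_num)
    (fun p => if p = 2 then 3686400 else if p = 3 then 544320 else if p = 7 then 420 else if p = 11 then 22 else 19)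
    (by
      intro p hp
      simp only [Finset.mem_insert, Finset.mem_singleton] at hp
      rcases hp with rfl | rfl | rfl | rfl | rfl
      · simpa using h2
      · simpa using h3
      · simpa using h7
      · simpa using h11
      · simpa using h19)
  refine key.trans ?_
  rw [card_hn]
  decide +kernel

end Cfsg.Agent.H705.HNC
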